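import Mathlib

/-!
# Extension by zero of complexes and additive functors
-/

set_option autoImplicit false
set_option backward.isDefEq.respectTransparency false

universe v u v' u'

open CategoryTheory CategoryTheory.Limits

noncomputable section

namespace Groth.Agent.FlResLib

variable {ι ι' : Type*} {c : ComplexShape ι} {c' : ComplexShape ι'} (e : c.Embedding c')
  {A : Type u} [Category.{v} A] [Preadditive A] [HasZeroObject A]
  {B : Type u'} [Category.{v'} B] [Preadditive B] [HasZeroObject B] (Φ : A ⥤ B) [Φ.Additive]

open HomologicalComplex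

/-- The components of the comparison. -/
def mapExtX (K : HomologicalComplex A c) :
    ∀ o : Option ι, Φ.obj (extend.X K o) ≅ extend.X ((Φ.mapHomologicalComplex c).obj K) o
  | some _ => Iso.refl _
  | none => (Φ.map_isZero (isZero_zero A)).iso (isZero_zero B)

theorem mapExtX_d (K : HomologicalComplex A c) (i j : Option ι) :
    (mapExtX Φ K i).hom ≫ extend.d ((Φ.mapHomologicalComplex c).obj K) i j =
      Φ.map (extend.d K i j) ≫ (mapExtX Φ K j).hom :=
  match i, j with
  | none, _ => (Φ.map_isZero (isZero_zero A)).eq_of_src _ _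
  | some _, none => (isZero_zero B).eq_of_tgt _ _
  | some i, some j => (Category.id_comp (Φ.map (K.d i j))).trans (Category.comp_id (Φ.map (K.d i j))).symm

/-- Additive functors commute with extension by zero. -/
def mapExtendIso (K : HomologicalComplex A c) :
    (Φ.mapHomologicalComplex c').obj (K.extend e) ≅ ((Φ.mapHomologicalComplex c).obj K).extend e :=
  Hom.isoOfComponents (fun i => mapExtX Φ K (e.r i)) fun i j _ => mapExtX_d Φ K _ _

theorem mapExtX_naturality {K L : HomologicalComplex A c} (φ : K ⟶ L) (i : Option ι) :
    (mapExtX Φ K i).hom ≫ extend.mapX ((Φ.mapHomologicalComplex c).map φ) i =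
      Φ.map (extend.mapX φ i) ≫ (mapExtX Φ L i).hom :=
  match i with
  | none => (Φ.map_isZero (isZero_zero A)).eq_of_src _ _
  | some i => (Category.id_comp (Φ.map (φ.f i))).trans (Category.comp_id (Φ.map (φ.f i))).symm

theorem mapExtendIso_naturality {K L : HomologicalComplex A c} (φ : K ⟶ L) :
    (mapExtendIso e Φ K).hom ≫ extendMap ((Φ.mapHomologicalComplex c).map φ) e =
      (Φ.mapHomologicalComplex c').map (extendMap φ e) ≫ (mapExtendIso e Φ L).hom := by
  ext i
  exact mapExtX_naturality Φ φ (e.r i)

/-- Extension by zero of a homotopy equivalence. -/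
def extendEquiv [e.IsRelIff] {K L : HomologicalComplex B c} (h : HomotopyEquiv K L) :
    HomotopyEquiv (K.extend e) (L.extend e) where
  hom := extendMap h.hom e
  inv := extendMap h.inv e
  homotopyHomInvId := (Homotopy.ofEq (extendMap_comp _ _ e).symm).trans
    ((h.homotopyHomInvId.extend e).trans (Homotopy.ofEq (extendMap_id K e)))
  homotopyInvHomId := (Homotopy.ofEq (extendMap_comp _ _ e).symm).trans
    ((h.homotopyInvHomId.extend e).trans (Homotopy.ofEq (extendMap_id L e)))

/-- The image of an extension by zero of a homotopy equivalence after applying a functor. -/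
theorem exists_equiv_map [e.IsRelIff] {K L : HomologicalComplex A c} (φ : K ⟶ L)
    (h : HomotopyEquiv ((Φ.mapHomologicalComplex c).obj K) ((Φ.mapHomologicalComplex c).obj L))
    (hh : h.hom = (Φ.mapHomologicalComplex c).map φ) :
    ∃ g : HomotopyEquiv ((Φ.mapHomologicalComplex c').obj (K.extend e))
      ((Φ.mapHomologicalComplex c').obj (L.extend e)),
      g.hom = (Φ.mapHomologicalComplex c').map (extendMap φ e) := by
  refine ⟨(HomotopyEquiv.ofIso (mapExtendIso e Φ K)).trans
    ((extendEquiv e h).trans (HomotopyEquiv.ofIso (mapExtendIso e Φ L).symm)), ?_⟩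
  show (mapExtendIso e Φ K).hom ≫ extendMap h.hom e ≫ (mapExtendIso e Φ L).inv = _
  rw [hh, ← Category.assoc, mapExtendIso_naturality, Category.assoc, Iso.hom_inv_id, Category.comp_id]

/-- A complex which is zero outside the range of an embedding of shapes is the extension of its restriction. -/
theorem exists_iso_extend [e.IsRelIff] (F : HomologicalComplex A c') [F.IsStrictlySupported e] :
    Nonempty (F ≅ (F.restriction e).extend e) := by
  let φ : F ⟶ (F.restriction e).extend e := e.liftExtend (𝟙 _) (fun j hj i' hi' =>
    (F.isZero_X_of_isStrictlySupported e i' fun i hi => hj.2 i (hi ▸ hi')).eq_of_src _ _)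
  haveI : ∀ i', IsIso (φ.f i') := fun i' => by
    by_cases h : ∃ i, e.f i = i'
    · obtain ⟨i, hi⟩ := h
      rw [e.isIso_liftExtend_f_iff _ _ hi]
      exact (inferInstance : IsIso (𝟙 ((F.restriction e).X i)))
    · exact ⟨0, (F.isZero_X_of_isStrictlySupported e i' fun i hi => h ⟨i, hi⟩).eq_of_src _ _,
        ((F.restriction e).isZero_extend_X e i' fun i hi => h ⟨i, hi⟩).eq_of_src _ _⟩
  haveI : IsIso φ := Hom.isIso_of_components φ
  exact ⟨asIso φ⟩

end Groth.Agent.FlResLib
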