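import Mathlib

/-!
# Resolutions of a complex built from a functorial-free choice of monomorphisms into good objects

From a choice of a map `ι P : P ⟶ I P` for every object, a resolution of a complex is built; after
applying a right exact functor which splits every `ι P`, it is homotopy equivalent to the complex.
-/

set_option autoImplicit false
set_option backward.isDefEq.respectTransparency false

universe v u v' u'

open CategoryTheory CategoryTheory.Limits

noncomputable section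

namespace Groth.Agent.FlResLib

variable {A : Type u} [Category.{v} A] [Abelian A] (I : A → A) (ι : ∀ P, P ⟶ I P)
  (F : CochainComplex A ℕ)

/-- A step of the construction. -/
structure St (k : ℕ) where
  P : A
  m : P ⟶ F.X (k + 1)
  φ : F.X k ⟶ P
  hm : m ≫ F.d (k + 1) (k + 2) = 0
  hφ : φ ≫ m = F.d k (k + 1)

variable {I F}

/-- The map whose cokernel is the next object. -/
abbrev g {k : ℕ} (s : St F k) : s.P ⟶ I s.P ⊞ F.X (k + 1) :=
  ι s.P ≫ biprod.inl - s.m ≫ biprod.inr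

theorem g_snd {k : ℕ} (s : St F k) : g ι s ≫ biprod.snd ≫ F.d (k + 1) (k + 2) = 0 := by
  simp [g, s.hm]

/-- The next step. -/
def next {k : ℕ} (s : St F k) : St F (k + 1) where
  P := cokernel (g ι s)
  m := cokernel.desc _ (biprod.snd ≫ F.d (k + 1) (k + 2)) (g_snd ι s)
  φ := biprod.inr ≫ cokernel.π _
  hm := by
    rw [← cancel_epi (cokernel.π (g ι s))]
    simp
  hφ := by simp

/-- The steps. -/
def st : ∀ k, St F k
  | 0 => { P := F.X 0, m := F.d 0 1, φ := 𝟙 _, hm := F.d_comp_d _ _ _, hφ := Category.id_comp _ }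
  | k + 1 => next ι (st k)

variable (F)

/-- The map from a term to the next object. -/
abbrev e (k : ℕ) : I (st ι (F := F) k).P ⟶ (st ι (F := F) (k + 1)).P :=
  biprod.inl ≫ cokernel.π (g ι (st ι k))

theorem e_m (k : ℕ) : e ι F k ≫ (st ι (F := F) (k + 1)).m = 0 := by
  show (biprod.inl ≫ cokernel.π (g ι (st ι k))) ≫ cokernel.desc _ _ (g_snd ι (st ι k)) = 0
  simp

theorem ι_inl_π (k : ℕ) :
    ι (st ι (F := F) k).P ≫ e ι F k = (st ι (F := F) k).m ≫ (st ι (F := F) (k + 1)).φ := by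
  have h := cokernel.condition (g ι (st ι (F := F) k))
  rw [Preadditive.sub_comp, sub_eq_zero, Category.assoc, Category.assoc] at h
  exact h

/-- The resolution. -/
def res : CochainComplex A ℕ :=
  CochainComplex.of (fun k => I (st ι (F := F) k).P) (fun k => e ι F k ≫ ι _) fun k => by
    refine (Category.assoc _ _ _).trans ((congrArg (e ι F k ≫ ·) ((Category.assoc _ _ _).symm.trans
      (congrArg (· ≫ ι _) (ι_inl_π ι F (k + 1))))).trans ?_)
    exact (Category.assoc _ _ _).symm.trans ((congrArg (· ≫ ι _) ((Category.assoc _ _ _).symm.trans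
      ((congrArg (· ≫ _) (e_m ι F k)).trans zero_comp))).trans zero_comp)

theorem res_d (k : ℕ) : (res ι F).d k (k + 1) = e ι F k ≫ ι _ :=
  CochainComplex.of_d (fun k => I (st ι (F := F) k).P) (fun k => e ι F k ≫ ι _) k

/-- The map to the resolution. -/
def toRes : F ⟶ res ι F where
  f k := (st ι (F := F) k).φ ≫ ι _
  comm' i j hij := by
    obtain rfl : i + 1 = j := hij
    show ((st ι (F := F) i).φ ≫ ι _) ≫ (res ι F).d i (i + 1) = F.d i (i + 1) ≫ (st ι (F := F) (i + 1)).φ ≫ ι _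
    rw [res_d, Category.assoc, ← Category.assoc (ι _), ι_inl_π, ← (st ι (F := F) i).hφ]
    simp only [Category.assoc]

variable {B : Type u'} [Category.{v'} B] [Abelian B] (Φ : A ⥤ B) [Φ.Additive] [PreservesFiniteColimits Φ]
  (r : ∀ P, Φ.obj (I P) ⟶ Φ.obj P) (hr : ∀ P, Φ.map (ι P) ≫ r P = 𝟙 _)

/-- The retraction of `g`. -/
abbrev σ (k : ℕ) : Φ.obj (I (st ι (F := F) k).P ⊞ F.X (k + 1)) ⟶ Φ.obj (st ι (F := F) k).P :=
  Φ.map biprod.fst ≫ r _

include hr in
theorem g_σ (k : ℕ) : Φ.map (g ι (st ι k)) ≫ σ ι F Φ r k = 𝟙 _ := by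
  rw [σ, ← Category.assoc, ← Φ.map_comp]
  simp [g, hr]

include hr in
theorem exists_section (k : ℕ) :
    ∃ s : Φ.obj (st ι (F := F) (k + 1)).P ⟶ Φ.obj (I (st ι (F := F) k).P ⊞ F.X (k + 1)),
      Φ.map (cokernel.π (g ι (st ι k))) ≫ s = 𝟙 _ - σ ι F Φ r k ≫ Φ.map (g ι (st ι k)) := by
  have h : Φ.map (g ι (st ι k)) ≫ (𝟙 _ - σ ι F Φ r k ≫ Φ.map (g ι (st ι k))) = 0 := by
    rw [Preadditive.comp_sub, Category.comp_id, ← Category.assoc, g_σ ι F Φ r hr, Category.id_comp, sub_self]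
  obtain ⟨s, hs⟩ := CokernelCofork.IsColimit.desc'
    (CokernelCofork.mapIsColimit _ (cokernelIsCokernel (g ι (st ι (F := F) k))) Φ) _ h
  exact ⟨s, hs⟩

/-- The sections. -/
def sec (k : ℕ) : Φ.obj (st ι (F := F) (k + 1)).P ⟶ Φ.obj (I (st ι (F := F) k).P ⊞ F.X (k + 1)) :=
  (exists_section ι F Φ r hr k).choose

theorem π_sec (k : ℕ) : Φ.map (cokernel.π (g ι (st ι k))) ≫ sec ι F Φ r hr k =
    𝟙 _ - σ ι F Φ r k ≫ Φ.map (g ι (st ι k)) :=
  (exists_section ι F Φ r hr k).choose_spec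

theorem sec_π (k : ℕ) : sec ι F Φ r hr k ≫ Φ.map (cokernel.π (g ι (st ι k))) = 𝟙 _ := by
  haveI : Epi (Φ.map (cokernel.π (g ι (st ι (F := F) k)))) := inferInstance
  refine (cancel_epi (Φ.map (cokernel.π (g ι (st ι (F := F) k))))).1 ?_
  rw [← Category.assoc, π_sec, Preadditive.sub_comp, Category.id_comp, Category.assoc, ← Φ.map_comp,
    cokernel.condition, Φ.map_zero, comp_zero, sub_zero]
  exact (Category.comp_id _).symm

/-- The part of the inverse depending on the step. -/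
def t : ∀ k, Φ.obj (st ι (F := F) k).P ⟶ Φ.obj (F.X k)
  | 0 => 𝟙 _
  | k + 1 => sec ι F Φ r hr k ≫ Φ.map biprod.snd

theorem φ_t : ∀ k, Φ.map (st ι (F := F) k).φ ≫ t ι F Φ r hr k = 𝟙 _
  | 0 => by
    show Φ.map (𝟙 (F.X 0)) ≫ 𝟙 _ = _
    rw [Category.comp_id, Φ.map_id]
  | k + 1 => by
    show Φ.map (biprod.inr ≫ cokernel.π (g ι (st ι (F := F) k))) ≫ sec ι F Φ r hr k ≫ Φ.map biprod.snd = _
    rw [Φ.map_comp, Category.assoc, ← Category.assoc (Φ.map (cokernel.π _)), π_sec]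
    simp only [Preadditive.sub_comp, Preadditive.comp_sub, Category.id_comp, Category.assoc, σ,
      ← Φ.map_comp, ← Φ.map_comp_assoc, biprod.inr_fst, biprod.inr_snd, Φ.map_zero, zero_comp, sub_zero,
      CategoryTheory.Functor.map_id]

theorem t_d : ∀ k, t ι F Φ r hr k ≫ Φ.map (F.d k (k + 1)) = Φ.map (st ι (F := F) k).m
  | 0 => Category.id_comp _
  | k + 1 => by
    show (sec ι F Φ r hr k ≫ Φ.map biprod.snd) ≫ Φ.map (F.d (k + 1) (k + 2)) =
      Φ.map (cokernel.desc _ _ (g_snd ι (st ι (F := F) k)))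
    rw [Category.assoc, ← Φ.map_comp]
    refine (congrArg (sec ι F Φ r hr k ≫ Φ.map ·) (cokernel.π_desc _ _ (g_snd ι (st ι (F := F) k))).symm).trans ?_
    rw [Φ.map_comp, ← Category.assoc, sec_π]
    exact Category.id_comp _

/-- The inverse. -/
abbrev ψ (k : ℕ) : Φ.obj ((res ι F).X k) ⟶ Φ.obj (F.X k) := r (st ι (F := F) k).P ≫ t ι F Φ r hr k

/-- The homotopy. -/
abbrev η (k : ℕ) : Φ.obj ((res ι F).X (k + 1)) ⟶ Φ.obj ((res ι F).X k) :=
  r (st ι (F := F) (k + 1)).P ≫ sec ι F Φ r hr k ≫ Φ.map biprod.fst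

theorem d_ψ (k : ℕ) : Φ.map ((res ι F).d k (k + 1)) ≫ ψ ι F Φ r hr (k + 1) = ψ ι F Φ r hr k ≫ Φ.map (F.d k (k + 1)) := by
  rw [res_d, ψ, ψ, Category.assoc (r _), t_d, Φ.map_comp, Category.assoc]
  refine (congrArg (Φ.map (e ι F k) ≫ ·) ((Category.assoc _ _ _).symm.trans
    ((congrArg (· ≫ t ι F Φ r hr (k + 1)) (hr _)).trans (Category.id_comp _)))).trans ?_
  show Φ.map (biprod.inl ≫ cokernel.π (g ι (st ι (F := F) k))) ≫ sec ι F Φ r hr k ≫ Φ.map biprod.snd = _
  rw [Φ.map_comp, Category.assoc, ← Category.assoc (Φ.map (cokernel.π _)), π_sec]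
  simp only [Preadditive.sub_comp, Preadditive.comp_sub, Category.id_comp, Category.assoc, σ,
    ← Φ.map_comp, ← Φ.map_comp_assoc, g, biprod.inl_snd, biprod.inr_snd, biprod.inl_fst, Φ.map_zero,
    comp_zero, zero_sub, Category.comp_id, CategoryTheory.Functor.map_id, Φ.map_neg, Preadditive.comp_neg, neg_neg]

theorem d_η (k : ℕ) : Φ.map ((res ι F).d k (k + 1)) ≫ η ι F Φ r hr k =
    𝟙 _ - r (st ι (F := F) k).P ≫ Φ.map (ι _) := by
  rw [res_d, η, Φ.map_comp, Category.assoc]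
  refine (congrArg (Φ.map (e ι F k) ≫ ·) ((Category.assoc _ _ _).symm.trans
    ((congrArg (· ≫ sec ι F Φ r hr k ≫ Φ.map biprod.fst) (hr _)).trans (Category.id_comp _)))).trans ?_
  show Φ.map (biprod.inl ≫ cokernel.π (g ι (st ι (F := F) k))) ≫ sec ι F Φ r hr k ≫ Φ.map biprod.fst = _
  rw [Φ.map_comp, Category.assoc, ← Category.assoc (Φ.map (cokernel.π _)), π_sec]
  simp only [Preadditive.sub_comp, Preadditive.comp_sub, Category.id_comp, Category.assoc, σ,
    ← Φ.map_comp, ← Φ.map_comp_assoc, g, biprod.inl_fst, biprod.inr_fst, comp_zero, sub_zero,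
    Category.comp_id, CategoryTheory.Functor.map_id]

theorem ψ_φ_succ (k : ℕ) :
    ψ ι F Φ r hr (k + 1) ≫ Φ.map ((toRes ι F).f (k + 1)) + η ι F Φ r hr k ≫ Φ.map ((res ι F).d k (k + 1)) =
      r (st ι (F := F) (k + 1)).P ≫ Φ.map (ι _) := by
  rw [res_d]
  show (r _ ≫ sec ι F Φ r hr k ≫ Φ.map biprod.snd) ≫
      Φ.map ((biprod.inr ≫ cokernel.π (g ι (st ι (F := F) k))) ≫ ι _) +
    (r _ ≫ sec ι F Φ r hr k ≫ Φ.map biprod.fst) ≫
      Φ.map ((biprod.inl ≫ cokernel.π (g ι (st ι (F := F) k))) ≫ ι _) = _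
  simp only [Category.assoc, Φ.map_comp]
  rw [← Preadditive.comp_add, ← Preadditive.comp_add, ← Category.assoc (Φ.map biprod.snd),
    ← Category.assoc (Φ.map biprod.fst), ← Preadditive.add_comp, ← Φ.map_comp, ← Φ.map_comp,
    ← Φ.map_add, add_comm (biprod.snd ≫ biprod.inr), biprod.total, Φ.map_id, Category.id_comp, ← Category.assoc (sec ι F Φ r hr k)]
  exact congrArg (r _ ≫ ·) ((congrArg (· ≫ Φ.map (ι _)) (sec_π ι F Φ r hr k)).trans (Category.id_comp _))

theorem arith {M : Type*} [AddCommGroup M] (a b o : M) : a = -(o - (a + b)) + -b + o := by abel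

/-- After applying the functor the resolution is homotopy equivalent to the complex. -/
def homotopyEquiv : HomotopyEquiv ((Φ.mapHomologicalComplex _).obj F) ((Φ.mapHomologicalComplex _).obj (res ι F)) where
  hom := (Φ.mapHomologicalComplex _).map (toRes ι F)
  inv :=
    { f := fun k => ψ ι F Φ r hr k
      comm' := fun i j hij => by
        obtain rfl : i + 1 = j := hij
        exact (d_ψ ι F Φ r hr i).symm }
  homotopyHomInvId := Homotopy.ofEq (by
    ext k
    show Φ.map ((st ι (F := F) k).φ ≫ ι _) ≫ r _ ≫ t ι F Φ r hr k = 𝟙 _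
    rw [Φ.map_comp, Category.assoc, ← Category.assoc (Φ.map (ι _)), hr]
    exact (congrArg (Φ.map _ ≫ ·) (Category.id_comp _)).trans (φ_t ι F Φ r hr k))
  homotopyInvHomId :=
    { hom := fun i j => if h : j + 1 = i then eqToHom (by subst h; rfl) ≫ (-η ι F Φ r hr j) else 0
      zero := fun i j h => dif_neg h
      comm := fun k => by
        cases k with
        | zero =>
          rw [Homotopy.dNext_cochainComplex, Homotopy.prevD_zero_cochainComplex, add_zero, dif_pos rfl, eqToHom_refl, Category.id_comp]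
          show ψ ι F Φ r hr 0 ≫ Φ.map ((toRes ι F).f 0) = Φ.map ((res ι F).d 0 1) ≫ (-η ι F Φ r hr 0) + (show Φ.obj ((res ι F).X 0) ⟶ Φ.obj ((res ι F).X 0) from 𝟙 (Φ.obj (I (st ι (F := F) 0).P)))
          rw [Preadditive.comp_neg, d_η, neg_sub, sub_add_cancel]
          show (r _ ≫ 𝟙 _) ≫ Φ.map (𝟙 (F.X 0) ≫ ι _) = _
          rw [Category.comp_id, Category.id_comp]
          rfl
        | succ k =>
          rw [Homotopy.dNext_cochainComplex, Homotopy.prevD_succ_cochainComplex, dif_pos rfl, dif_pos rfl, eqToHom_refl, eqToHom_refl,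
            Category.id_comp, Category.id_comp]
          show ψ ι F Φ r hr (k + 1) ≫ Φ.map ((toRes ι F).f (k + 1)) =
            Φ.map ((res ι F).d (k + 1) (k + 2)) ≫ (-η ι F Φ r hr (k + 1)) +
              (-η ι F Φ r hr k) ≫ Φ.map ((res ι F).d k (k + 1)) + (show Φ.obj ((res ι F).X (k + 1)) ⟶ Φ.obj ((res ι F).X (k + 1)) from 𝟙 (Φ.obj (I (st ι (F := F) (k + 1)).P)))
          rw [Preadditive.comp_neg, Preadditive.neg_comp, d_η, ← ψ_φ_succ ι F Φ r hr k]
          exact arith _ _ _ }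

end Groth.Agent.FlResLib
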