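import Groth.Prelude.Def_CohCx
import Groth.Agent.CohBase.Injective
import Groth.Agent.LocZLib.Flasque
import Groth.Agent.KInj.Restrict
import Groth.Agent.FlResLib.Res
import Groth.Agent.FlResLib.Extend

/-!
# Flasque resolutions of bounded below complexes with stalkwise homotopy equivalences
-/

set_option autoImplicit false
set_option backward.isDefEq.respectTransparency false
set_option linter.style.haveILetI false

universe u

open CategoryTheory CategoryTheory.Limits Opposite TopologicalSpace

noncomputable section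

namespace Groth.Agent.FlResLib

variable {X : TopCat.{u}}

/-- The stalk functor of abelian sheaves. -/
abbrev stF (x : X) : CohTop.Ab X ⥤ AddCommGrpCat.{u} :=
  sheafToPresheaf (Opens.grothendieckTopology X) AddCommGrpCat.{u} ⋙
    TopCat.Presheaf.stalkFunctor AddCommGrpCat.{u} x

theorem isLeftAdjoint_stF (x : X) : (stF x).IsLeftAdjoint := by
  classical exact (stalkSkyscraperSheafAdjunction (C := AddCommGrpCat.{u}) x).isLeftAdjoint

instance preservesFiniteColimits_stF (x : X) : PreservesFiniteColimits (stF x) :=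
  haveI := isLeftAdjoint_stF x
  inferInstance

instance additive_stF (x : X) : (stF x).Additive :=
  haveI := preservesBinaryBiproducts_of_preservesBinaryCoproducts (stF x)
  Functor.additive_of_preservesBinaryBiproducts _

instance preservesFiniteLimits_stF (x : X) : PreservesFiniteLimits (stF x) := by
  classical
  haveI : (stF x).PreservesMonomorphisms :=
    inferInstanceAs (TopCat.Sheaf.forget AddCommGrpCat.{u} X ⋙ TopCat.Presheaf.stalkFunctor AddCommGrpCat.{u} x).PreservesMonomorphisms
  exact KInj.preservesFiniteLimits_of_preservesMonomorphisms (w := stF x)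
    (stalkSkyscraperSheafAdjunction (C := AddCommGrpCat.{u}) x)

/-- Godement's sheaf. -/
abbrev gd (F : CohTop.Ab X) : CohTop.Ab X := CohBase.god (X := X) F

/-- Evaluation of a germ of a family of germs. -/
def retr (x : X) (F : CohTop.Ab X) : (stF x).obj (gd F) ⟶ (stF x).obj F :=
  colimit.desc _
    { pt := (stF x).obj F
      ι :=
        { app := fun U => AddCommGrpCat.ofHom
            (Pi.evalAddMonoidHom (fun y : U.unop.1 => (CohBase.stk (X := X) F y.1 : Type u)) ⟨x, U.unop.2⟩)
          naturality := fun U V h => by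
            refine AddCommGrpCat.hom_ext (AddMonoidHom.ext fun s => ?_)
            rfl } }

theorem germ_retr (x : X) (F : CohTop.Ab X) (U : Opens X) (hU : x ∈ U) :
    TopCat.Presheaf.germ (gd F).obj U x hU ≫ retr x F = AddCommGrpCat.ofHom
      (Pi.evalAddMonoidHom (fun y : U => (CohBase.stk (X := X) F y.1 : Type u)) ⟨x, hU⟩) :=
  colimit.ι_desc _ _

theorem godι_retr (x : X) (F : CohTop.Ab X) :
    (stF x).map (CohBase.godι (X := X) F) ≫ retr x F = 𝟙 _ := by
  refine TopCat.Presheaf.stalk_hom_ext (C := AddCommGrpCat.{u}) F.obj fun U hU => ?_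
  refine ((TopCat.Presheaf.stalkFunctor_map_germ_assoc U x hU (CohBase.godι (X := X) F).hom _).trans ?_).trans
    (Category.comp_id _).symm
  refine (congrArg _ (germ_retr x F U hU)).trans ?_
  rfl

theorem isFlasque_gd (F : CohTop.Ab X) : TopCat.Sheaf.IsFlasque (gd F) := by
  classical
  refine LocZLib.isFlasque_of_surjective _ fun {W V} h s => ?_
  let s' : ∀ y : W, CohBase.stk (X := X) F y.1 := s
  refine ⟨fun y : V => if hy : y.1 ∈ W then s' ⟨y.1, hy⟩ else 0, funext fun y => ?_⟩
  exact dif_pos (show y.1 ∈ W from y.2)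

theorem isFlasque_of_iso {F G : CohTop.Ab X} (e : F ≅ G) (h : TopCat.Sheaf.IsFlasque G) :
    TopCat.Sheaf.IsFlasque F := by
  haveI := h
  refine LocZLib.isFlasque_of_surjective _ fun {W V} hW s => ?_
  obtain ⟨t, ht⟩ := LocZLib.surjective_res_flasque G hW (e.hom.hom.app (op W) s)
  refine ⟨e.inv.hom.app (op V) t, ?_⟩
  rw [← NatTrans.naturality_apply, ht, ← ConcreteCategory.comp_apply, ← NatTrans.comp_app,
    ← ObjectProperty.FullSubcategory.comp_hom, e.hom_inv_id]
  rfl

theorem isFlasque_of_isZero {F : CohTop.Ab X} (h : IsZero F) : TopCat.Sheaf.IsFlasque F := by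
  refine LocZLib.isFlasque_of_surjective _ fun {W V} hW s => ⟨0, ?_⟩
  have hz : IsZero (F.obj.obj (op W)) :=
    ((evaluation _ AddCommGrpCat.{u}).obj (op W)).map_isZero
      ((sheafToPresheaf (Opens.grothendieckTopology X) AddCommGrpCat.{u}).map_isZero h)
  haveI := AddCommGrpCat.subsingleton_of_isZero hz
  exact Subsingleton.elim _ _

/-- A map of complexes which is a homotopy equivalence on all stalks is a quasi-isomorphism. -/
theorem quasiIso_of_stalks {F G : CochainComplex (CohTop.Ab X) ℤ} (φ : F ⟶ G)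
    (h : ∀ x : X, ∃ e : HomotopyEquiv ((CohCx.stalkCx x).obj F) ((CohCx.stalkCx x).obj G),
      e.hom = (CohCx.stalkCx x).map φ) : QuasiIso φ := by
  refine ⟨fun n => ?_⟩
  rw [quasiIsoAt_iff_isIso_homologyMap]
  haveI : ∀ x : X, IsIso ((TopCat.Presheaf.stalkFunctor AddCommGrpCat.{u} x).map
      (HomologicalComplex.homologyMap φ n).hom) := fun x => by
    obtain ⟨e, he⟩ := h x
    haveI : IsIso (HomologicalComplex.homologyMap ((CohCx.stalkCx x).map φ) n) := by
      rw [← he]
      exact ⟨(e.toHomologyIso n).inv, (e.toHomologyIso n).hom_inv_id, (e.toHomologyIso n).inv_hom_id⟩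
    let ψ := (HomologicalComplex.shortComplexFunctor (CohTop.Ab X) (ComplexShape.up ℤ) n).map φ
    have en := ShortComplex.mapHomologyIso_hom_naturality ψ (stF x)
    haveI : IsIso (ShortComplex.homologyMap ((stF x).mapShortComplex.map ψ)) :=
      (inferInstance : IsIso (HomologicalComplex.homologyMap ((CohCx.stalkCx x).map φ) n))
    haveI : IsIso (((F.sc n).mapHomologyIso (stF x)).hom ≫ (stF x).map (ShortComplex.homologyMap ψ)) := by
      rw [← en]; infer_instance
    exact IsIso.of_isIso_comp_left ((F.sc n).mapHomologyIso (stF x)).hom ((stF x).map (ShortComplex.homologyMap ψ))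
  exact TopCat.Presheaf.isIso_of_stalkFunctor_map_iso (X := X) (C := AddCommGrpCat.{u}) (HomologicalComplex.homologyMap φ n)

theorem exists_flasque_resolution (F : CochainComplex (CohTop.Ab X) ℤ) (a : ℤ) (hF : F.IsStrictlyGE a) :
    ∃ (G : CochainComplex (CohTop.Ab X) ℤ) (φ : F ⟶ G), G.IsStrictlyGE a ∧ QuasiIso φ ∧
      (∀ n : ℤ, TopCat.Sheaf.IsFlasque (G.X n)) ∧
      ∀ x : X, ∃ e : HomotopyEquiv ((CohCx.stalkCx x).obj F) ((CohCx.stalkCx x).obj G),
        e.hom = (CohCx.stalkCx x).map φ := by
  let em := ComplexShape.embeddingUpIntGE a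
  let F' := F.restriction em
  let ι₀ : ∀ P : CohTop.Ab X, P ⟶ gd P := fun P => CohBase.godι (X := X) P
  let G := res ι₀ F'
  obtain ⟨j⟩ := exists_iso_extend em F
  have hst : ∀ x : X, ∃ e : HomotopyEquiv ((CohCx.stalkCx x).obj F) ((CohCx.stalkCx x).obj (G.extend em)),
      e.hom = (CohCx.stalkCx x).map (j.hom ≫ HomologicalComplex.extendMap (toRes ι₀ F') em) := fun x => by
    obtain ⟨g, hg⟩ := exists_equiv_map em (stF x) (toRes ι₀ F')
      (homotopyEquiv ι₀ F' (stF x) (fun P => retr x P) (fun P => godι_retr x P)) rfl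
    refine ⟨(HomotopyEquiv.ofIso (((stF x).mapHomologicalComplex _).mapIso j)).trans g, ?_⟩
    show ((stF x).mapHomologicalComplex _).map j.hom ≫ g.hom = _
    rw [hg, ← Functor.map_comp]
  refine ⟨G.extend em, j.hom ≫ HomologicalComplex.extendMap (toRes ι₀ F') em, inferInstance,
    quasiIso_of_stalks _ hst, fun n => ?_, hst⟩
  by_cases h : ∃ i, em.f i = n
  · obtain ⟨i, hi⟩ := h
    exact isFlasque_of_iso (G.extendXIso em hi) (isFlasque_gd _)
  · exact isFlasque_of_isZero (G.isZero_extend_X em n fun i hi => h ⟨i, hi⟩)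

end Groth.Agent.FlResLib
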